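import Mathlib

/-!
# Index bounds (for S5717, D7)

* `relIndex_le_card` : the index is at most the number of values of a map separating the cosets;
* `card_pow_sol` : solutions of `z ^ m = c` modulo a central cyclic subgroup;
* `exists_gens` : few generators modulo a subgroup;
* `relIndex_centA`, `relIndex_centR` : centralisers of a cyclic group and of a group which is abelian modulo it;
* `eq_of_perfect_center` : automorphisms of a perfect group trivial modulo the centre.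
-/

set_option autoImplicit false

open Subgroup
open scoped commutatorElement

namespace Cfsg.Agent.H951.B57

theorem relIndex_ne {G : Type*} [Group G] [Finite G] (A B : Subgroup G) : A.relIndex B ≠ 0 :=
  Subgroup.index_ne_zero_of_finite (H := A.subgroupOf B)

theorem relIndex_le_card {G : Type*} [Group G] {H K : Subgroup G} {S : Type*} [Finite S] (f : K → S)
    (hf : ∀ x y : K, f x = f y → (x : G)⁻¹ * y ∈ H) : H.relIndex K ≤ Nat.card S := by
  rw [Subgroup.relIndex, Subgroup.index]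
  refine Nat.card_le_card_of_injective (fun q : K ⧸ H.subgroupOf K => f q.out) ?_
  intro a b hab
  have h1 := hf _ _ hab
  rw [← QuotientGroup.out_eq' a, ← QuotientGroup.out_eq' b, QuotientGroup.eq, mem_subgroupOf]
  exact h1

theorem card_pow_le {A : Type*} [Group A] [Finite A] [IsCyclic A] {m : ℕ} (hm : 0 < m) :
    Nat.card {a : A // a ^ m = 1} ≤ m := by
  classical
  have : Fintype A := Fintype.ofFinite A
  rw [Nat.card_eq_fintype_card, Fintype.card_subtype]
  exact IsCyclic.card_pow_eq_one_le hm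

/-- solutions of `z ^ m = c` modulo a central cyclic subgroup -/
theorem card_pow_sol {G : Type*} [Group G] [Finite G] {A R : Subgroup G} (hA : IsCyclic A)
    (hc : ∀ a ∈ A, ∀ r ∈ R, a * r = r * a) {m : ℕ} (hm : 0 < m) (c : G) :
    Nat.card {z : R // (z : G) ^ m = c} ≤ A.relIndex R * m := by
  have h0 : ∀ q : R ⧸ A.subgroupOf R, ∃ z₀ : R, (∃ z : R, (z : R ⧸ A.subgroupOf R) = q ∧ (z : G) ^ m = c) →
      (z₀ : R ⧸ A.subgroupOf R) = q ∧ (z₀ : G) ^ m = c := by
    intro q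
    by_cases h : ∃ z : R, (z : R ⧸ A.subgroupOf R) = q ∧ (z : G) ^ m = c
    · obtain ⟨z, hz⟩ := h
      exact ⟨z, fun _ => hz⟩
    · exact ⟨1, fun h' => absurd h' h⟩
  choose z₀ hz₀ using h0
  have h1 : ∀ z : {z : R // (z : G) ^ m = c}, ((z₀ (z.1 : R ⧸ A.subgroupOf R) : R) : G)⁻¹ * z.1 ∈ A ∧
      (((z₀ (z.1 : R ⧸ A.subgroupOf R) : R) : G)⁻¹ * z.1) ^ m = 1 := by
    intro z
    obtain ⟨h2, h3⟩ := hz₀ (z.1 : R ⧸ A.subgroupOf R) ⟨z.1, rfl, z.2⟩
    rw [QuotientGroup.eq, mem_subgroupOf] at h2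
    have h4 : ((z₀ (z.1 : R ⧸ A.subgroupOf R) : R) : G)⁻¹ * z.1 ∈ A := h2
    refine ⟨h4, ?_⟩
    obtain ⟨a, ha, ha'⟩ : ∃ a ∈ A, ((z₀ (z.1 : R ⧸ A.subgroupOf R) : R) : G)⁻¹ * z.1 = a := ⟨_, h4, rfl⟩
    rw [ha']
    have h5 : (z.1 : G) = (z₀ (z.1 : R ⧸ A.subgroupOf R) : R) * a := by rw [← ha']; group
    have h6 := z.2
    have hcm : Commute ((z₀ (z.1 : R ⧸ A.subgroupOf R) : R) : G) a :=
      (hc a ha _ (z₀ (z.1 : R ⧸ A.subgroupOf R)).2).symm
    rw [h5, hcm.mul_pow, h3] at h6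
    exact mul_eq_left.1 h6
  have hinj : Function.Injective (fun z : {z : R // (z : G) ^ m = c} =>
      (((z.1 : R) : R ⧸ A.subgroupOf R), (⟨⟨_, (h1 z).1⟩, Subtype.ext (h1 z).2⟩ : {a : A // a ^ m = 1}))) := by
    intro a b hab
    have h2 : (a.1 : R ⧸ A.subgroupOf R) = b.1 := congrArg Prod.fst hab
    have h3 : ((z₀ (a.1 : R ⧸ A.subgroupOf R) : R) : G)⁻¹ * a.1 = ((z₀ (b.1 : R ⧸ A.subgroupOf R) : R) : G)⁻¹ * b.1 :=
      congrArg (fun w : (R ⧸ A.subgroupOf R) × {a : A // a ^ m = 1} => ((w.2 : A) : G)) hab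
    rw [h2] at h3
    exact Subtype.ext (Subtype.ext (mul_left_cancel h3))
  have h4 := Nat.card_le_card_of_injective _ hinj
  rw [Nat.card_prod] at h4
  refine h4.trans ?_
  have h5 : Nat.card (R ⧸ A.subgroupOf R) = A.relIndex R := rfl
  rw [h5]
  exact Nat.mul_le_mul_left _ (card_pow_le hm)

/-- few generators modulo a subgroup -/
theorem exists_gens {G : Type*} [Group G] [Finite G] {R : Subgroup G} :
    ∀ (n : ℕ) (A : Subgroup G), A ≤ R → A.relIndex R = n →
      ∃ S : Finset G, (S : Set G) ⊆ R ∧ R ≤ A ⊔ closure (S : Set G) ∧ 2 ^ S.card ≤ n := by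
  classical
  intro n
  induction n using Nat.strong_induction_on with
  | _ n ih =>
    intro A hAR hn
    by_cases hRA : R ≤ A
    · refine ⟨∅, by simp, le_trans hRA le_sup_left, ?_⟩
      rw [← hn, Subgroup.relIndex_eq_one.2 hRA]
      simp
    · obtain ⟨r, hr, hrA⟩ := SetLike.not_le_iff_exists.1 hRA
      have hBR : A ⊔ zpowers r ≤ R := sup_le hAR (zpowers_le.2 hr)
      have hmul := Subgroup.relIndex_mul_relIndex A (A ⊔ zpowers r) R le_sup_left hBR
      have h2 : 2 ≤ A.relIndex (A ⊔ zpowers r) := by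
        have h3 : A.relIndex (A ⊔ zpowers r) ≠ 0 := relIndex_ne _ _
        have h4 : A.relIndex (A ⊔ zpowers r) ≠ 1 := fun h =>
          hrA ((Subgroup.relIndex_eq_one.1 h) (mem_sup_right (mem_zpowers r)))
        omega
      have hpos : 0 < (A ⊔ zpowers r).relIndex R := Nat.pos_of_ne_zero (relIndex_ne _ _)
      have hlt : (A ⊔ zpowers r).relIndex R < n := by
        rw [← hn, ← hmul]
        nlinarith
      obtain ⟨S, hS1, hS2, hS3⟩ := ih _ hlt (A ⊔ zpowers r) hBR rfl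
      refine ⟨insert r S, ?_, ?_, ?_⟩
      · intro y hy
        rw [Finset.coe_insert, Set.mem_insert_iff] at hy
        rcases hy with rfl | hy
        · exact hr
        · exact hS1 hy
      · refine hS2.trans (sup_le (sup_le le_sup_left ?_) ?_)
        · rw [zpowers_le]
          exact mem_sup_right (subset_closure (by simp))
        · exact le_trans (closure_mono (by simp)) le_sup_right
      · have h5 : (insert r S).card ≤ S.card + 1 := Finset.card_insert_le _ _
        calc 2 ^ (insert r S).card ≤ 2 ^ (S.card + 1) := Nat.pow_le_pow_right (by norm_num) h5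
          _ = 2 * 2 ^ S.card := by rw [pow_succ, mul_comm]
          _ ≤ A.relIndex (A ⊔ zpowers r) * (A ⊔ zpowers r).relIndex R := Nat.mul_le_mul h2 hS3
          _ = n := by rw [hmul, hn]

/-- the centraliser of a cyclic normal subgroup -/
theorem relIndex_centA {G : Type*} [Group G] [Finite G] {A C X : Subgroup G} (hA : IsCyclic A)
    (hn : ∀ x ∈ X, ∀ a ∈ A, x * a * x⁻¹ ∈ A) (hC : ∀ x, x ∈ C ↔ x ∈ X ∧ ∀ a ∈ A, x * a = a * x) :
    C.relIndex X ≤ Nat.card A := by
  obtain ⟨g, hg⟩ := IsCyclic.exists_generator (α := A)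
  refine relIndex_le_card (fun x : X => (⟨x * g * (x : G)⁻¹, hn x x.2 g g.2⟩ : A)) ?_
  intro x y hxy
  have h1 : (x : G) * g * (x : G)⁻¹ = y * g * (y : G)⁻¹ := congrArg Subtype.val hxy
  refine (hC _).2 ⟨mul_mem (inv_mem x.2) y.2, ?_⟩
  have h2 : Commute ((x : G)⁻¹ * y) g := by
    change (x : G)⁻¹ * y * g = g * ((x : G)⁻¹ * y)
    calc (x : G)⁻¹ * y * g = (x : G)⁻¹ * (y * g * (y : G)⁻¹) * y := by group
      _ = (x : G)⁻¹ * (x * g * (x : G)⁻¹) * y := by rw [h1]
      _ = g * ((x : G)⁻¹ * y) := by group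
  intro a ha
  obtain ⟨i, hi⟩ := hg ⟨a, ha⟩
  have h3 : (g : G) ^ i = a := by
    have := congrArg Subtype.val hi
    simpa using this
  rw [← h3]
  exact (h2.zpow_right i).eq

/-- the centraliser of `R` in `C`, where `A ≤ R` is cyclic and centralised by `C` -/
theorem relIndex_centR {G : Type*} [Group G] [Finite G] {A R C C₁ : Subgroup G} (hAR : A ≤ R) (hA : IsCyclic A)
    (hRC : R ≤ C) (hcA : ∀ x ∈ C, ∀ a ∈ A, x * a = a * x) (hn : ∀ x ∈ C, ∀ y ∈ R, x * y * x⁻¹ ∈ R)
    (hC₁ : ∀ x, x ∈ C → (∀ r ∈ R, x * r = r * x) → x ∈ C₁) :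
    ∃ k, 2 ^ k ≤ A.relIndex R ∧ C₁.relIndex C ≤ (A.relIndex R * A.relIndex R) ^ k := by
  classical
  obtain ⟨S, hS1, hS2, hS3⟩ := exists_gens _ A hAR rfl
  refine ⟨S.card, hS3, ?_⟩
  set m := A.relIndex R with hm
  have hm0 : 0 < m := Nat.pos_of_ne_zero (relIndex_ne _ _)
  have hcR : ∀ a ∈ A, ∀ r ∈ R, a * r = r * a := fun a ha r hr => (hcA r (hRC hr) a ha).symm
  have hnorm : (A.subgroupOf R).Normal := by
    refine ⟨fun a ha r => ?_⟩
    rw [mem_subgroupOf] at ha ⊢
    have : ((r * a * r⁻¹ : R) : G) = a := by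
      push_cast
      rw [← hcR a ha r r.2, mul_inv_cancel_right]
    rw [this]
    exact ha
  have hpow : ∀ s ∈ R, s ^ m ∈ A := by
    intro s hs
    have h1 := Subgroup.pow_index_mem (A.subgroupOf R) (⟨s, hs⟩ : R)
    rw [mem_subgroupOf] at h1
    exact h1
  let f : C → (∀ s : S, {z : R // (z : G) ^ m = (s : G) ^ m}) := fun y s =>
    ⟨⟨(y : G) * s * (y : G)⁻¹, hn y y.2 s (hS1 s.2)⟩, by
      change ((y : G) * s * (y : G)⁻¹) ^ m = (s : G) ^ m
      rw [conj_pow, hcA y y.2 _ (hpow s (hS1 s.2)), mul_inv_cancel_right]⟩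
  have h1 : C₁.relIndex C ≤ Nat.card (∀ s : S, {z : R // (z : G) ^ m = (s : G) ^ m}) := by
    refine relIndex_le_card f ?_
    intro x y hxy
    refine hC₁ _ (mul_mem (inv_mem x.2) y.2) ?_
    have h2 : ∀ s ∈ S, (x : G)⁻¹ * y * s = s * ((x : G)⁻¹ * y) := by
      intro s hs
      have h3 : (x : G) * s * (x : G)⁻¹ = y * s * (y : G)⁻¹ :=
        congrArg (fun w : {z : R // (z : G) ^ m = (s : G) ^ m} => ((w : R) : G)) (congrFun hxy ⟨s, hs⟩)
      calc (x : G)⁻¹ * y * s = (x : G)⁻¹ * (y * s * (y : G)⁻¹) * y := by group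
        _ = (x : G)⁻¹ * (x * s * (x : G)⁻¹) * y := by rw [h3]
        _ = s * ((x : G)⁻¹ * y) := by group
    have h4 : R ≤ centralizer {(x : G)⁻¹ * y} := by
      refine hS2.trans (sup_le ?_ ?_)
      · intro a ha
        rw [mem_centralizer_singleton_iff]
        exact (hcA _ (mul_mem (inv_mem x.2) y.2) a ha).symm
      · rw [closure_le]
        intro s hs
        rw [SetLike.mem_coe, mem_centralizer_singleton_iff]
        exact (h2 s hs).symm
    intro r hr
    exact (mem_centralizer_singleton_iff.1 (h4 hr)).symm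
  refine h1.trans ?_
  rw [Nat.card_pi]
  calc ∏ s : S, Nat.card {z : R // (z : G) ^ m = (s : G) ^ m} ≤ ∏ _s : S, (m * m) :=
        Finset.prod_le_prod' fun s _ => card_pow_sol hA hcR hm0 _
    _ = (m * m) ^ S.card := by rw [Finset.prod_const, Finset.card_univ, Fintype.card_coe]

/-- automorphisms of a perfect group trivial modulo the centre -/
theorem eq_of_perfect_center {E : Type*} [Group E] (hp : commutator E = ⊤) (α : MulAut E)
    (h : ∀ e, e⁻¹ * α e ∈ center E) (e : E) : α e = e := by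
  have h1 : (⊤ : Subgroup E) ≤ MonoidHom.eqLocus α.toMonoidHom (MonoidHom.id E) := by
    rw [← hp, commutator_eq_closure, closure_le]
    rintro _ ⟨a, b, rfl⟩
    show α ⁅a, b⁆ = ⁅a, b⁆
    obtain ⟨u, hu, hu'⟩ : ∃ u ∈ center E, α a = a * u := ⟨_, h a, by group⟩
    obtain ⟨v, hv, hv'⟩ : ∃ v ∈ center E, α b = b * v := ⟨_, h b, by group⟩
    rw [mem_center_iff] at hu hv
    rw [map_commutatorElement, hu', hv', commutatorElement_def, commutatorElement_def, mul_inv_rev, mul_inv_rev]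
    calc a * u * (b * v) * (u⁻¹ * a⁻¹) * (v⁻¹ * b⁻¹) = a * (u * (b * v)) * (u⁻¹ * a⁻¹) * (v⁻¹ * b⁻¹) := by group
      _ = a * (b * v * u) * (u⁻¹ * a⁻¹) * (v⁻¹ * b⁻¹) := by rw [← hu (b * v)]
      _ = a * b * (v * (a⁻¹ * v⁻¹)) * b⁻¹ := by group
      _ = a * b * (a⁻¹ * v⁻¹ * v) * b⁻¹ := by rw [← hv (a⁻¹ * v⁻¹)]
      _ = a * b * a⁻¹ * b⁻¹ := by group
  exact h1 (mem_top e)

end Cfsg.Agent.H951.B57
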