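import Mathlib
import Cfsg.Agent.H830.B57.Str
import Cfsg.Agent.H951.B57.Count

/-!
# The order of a primitive linear group modulo its cyclic normal subgroup (S5717, D7)

`card_XA_of` : `|X : A| ≤ |V| ^ ((27 + K) n)`, from the landed facts on `A` (cyclic, semiregular), `|R : A| ≤ D²` and the
decomposition of `V` restricted to a component.
-/

set_option autoImplicit false
set_option linter.unusedSectionVars false

open Subgroup
open scoped commutatorElement

namespace Cfsg.Agent.H951.B57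

open Cfsg.Agent.H830.B57

section Num

theorem sq_le (e : ℕ) : (e + 1) ^ 2 ≤ 3 * 2 ^ e := by
  rcases Nat.lt_or_ge e 2 with h | h
  · interval_cases e <;> norm_num
  · induction e, h using Nat.le_induction with
    | base => norm_num
    | succ e he ih =>
      have h1 : (e + 1 + 1) ^ 2 ≤ 2 * (e + 1) ^ 2 := by nlinarith
      rw [pow_succ 2 e]
      omega

theorem mul_succ_le (e : ℕ) : e * (e + 1) ≤ 2 * 2 ^ e := by
  rcases Nat.lt_or_ge e 2 with h | h
  · interval_cases e <;> norm_num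
  · induction e, h using Nat.le_induction with
    | base => norm_num
    | succ e he ih =>
      have h1 : (e + 1) * (e + 1 + 1) ≤ 2 * (e * (e + 1)) := by nlinarith
      rw [pow_succ 2 e]
      omega

theorem num_R {m k D q : ℕ} (hk : 2 ^ k ≤ m) (hm : m ≤ D ^ 2) (hD : 1 ≤ D) (hq : 2 ^ D ≤ q) :
    (m * m) ^ k ≤ q ^ 24 := by
  set e := Nat.log 2 D with he
  have h1 : D < 2 ^ (e + 1) := Nat.lt_pow_succ_log_self (by norm_num) D
  have h2 : 2 ^ e ≤ D := Nat.pow_log_le_self 2 (by omega)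
  have h3 : m ≤ 2 ^ (2 * (e + 1)) := by
    calc m ≤ D ^ 2 := hm
      _ ≤ (2 ^ (e + 1)) ^ 2 := Nat.pow_le_pow_left h1.le 2
      _ = 2 ^ (2 * (e + 1)) := by rw [← pow_mul, mul_comm]
  have h4 : k ≤ 2 * (e + 1) := (Nat.pow_le_pow_iff_right (by norm_num)).1 (hk.trans h3)
  have h5 := sq_le e
  calc (m * m) ^ k ≤ (2 ^ (2 * (e + 1)) * 2 ^ (2 * (e + 1))) ^ k := Nat.pow_le_pow_left (Nat.mul_le_mul h3 h3) k
    _ = 2 ^ (4 * (e + 1) * k) := by rw [← pow_add, ← pow_mul]; congr 1; ring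
    _ ≤ 2 ^ (D * 24) := by
        refine Nat.pow_le_pow_right (by norm_num) ?_
        calc 4 * (e + 1) * k ≤ 4 * (e + 1) * (2 * (e + 1)) := Nat.mul_le_mul_left _ h4
          _ = 8 * (e + 1) ^ 2 := by ring
          _ ≤ 8 * (3 * 2 ^ e) := Nat.mul_le_mul_left _ h5
          _ ≤ 8 * (3 * D) := Nat.mul_le_mul_left _ (Nat.mul_le_mul_left _ h2)
          _ = D * 24 := by ring
    _ = (2 ^ D) ^ 24 := by rw [pow_mul]
    _ ≤ q ^ 24 := Nat.pow_le_pow_left hq 24

theorem num_t {t D q : ℕ} (ht : 1 ≤ t → 2 ^ (t - 1) ≤ D) (hq : 2 ^ D ≤ q) : t ^ t ≤ q ^ 2 := by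
  have hq1 : 1 ≤ q := le_trans Nat.one_le_two_pow hq
  rcases Nat.eq_zero_or_pos t with h0 | h0
  · subst h0
    rw [pow_zero]
    exact Nat.one_le_pow _ _ hq1
  · obtain ⟨e, rfl⟩ : ∃ e, t = e + 1 := ⟨t - 1, by omega⟩
    have h1 : 2 ^ e ≤ D := ht (by omega)
    have h2 : e + 1 ≤ 2 ^ e := Nat.lt_two_pow_self
    calc (e + 1) ^ (e + 1) ≤ (2 ^ e) ^ (e + 1) := Nat.pow_le_pow_left h2 _
      _ = 2 ^ (e * (e + 1)) := by rw [← pow_mul]
      _ ≤ 2 ^ (D * 2) := by
          refine Nat.pow_le_pow_right (by norm_num) ?_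
          have := mul_succ_le e
          omega
      _ = (2 ^ D) ^ 2 := by rw [pow_mul]
      _ ≤ q ^ 2 := Nat.pow_le_pow_left hq 2

end Num

section Lin

variable {p : ℕ} [Fact p.Prime] {V : Type} [AddCommGroup V] [Module (ZMod p) V]

theorem finite_lin [Finite V] : Finite (V ≃ₗ[ZMod p] V) :=
  Finite.of_injective (fun e : V ≃ₗ[ZMod p] V => (e : V → V)) DFunLike.coe_injective

/-- the automorphisms of the simple quotient of a component -/
theorem card_aut_le [Finite V] {E : Subgroup (V ≃ₗ[ZMod p] V)} {U : Type} [AddCommGroup U] [Module (ZMod p) U]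
    [Finite U] {M : ℕ} {ρ : E →* (U ≃ₗ[ZMod p] U)} {φ : V ≃ₗ[ZMod p] (Fin M → U)} (h : HomDec E M ρ φ)
    (hp : commutator E = ⊤) (hna : ∃ x y : E ⧸ center E, x * y ≠ y * x) {N : ℕ}
    (hsize : ∀ H : Subgroup (E ⧸ center E), H ≠ ⊤ → Nat.card (MulAut (E ⧸ center E)) ≤ H.index ^ N) :
    Nat.card (MulAut (E ⧸ center E)) ≤ Nat.card U ^ N := by
  have hfL : Finite (V ≃ₗ[ZMod p] V) := finite_lin
  obtain ⟨u, hu⟩ := h.nt
  -- the stabiliser of `u`
  let S : Subgroup E :=
    { carrier := {e | ρ e u = u}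
      one_mem' := by
        show ρ 1 u = u
        rw [map_one]; rfl
      mul_mem' := by
        intro a b ha hb
        show ρ (a * b) u = u
        rw [map_mul]
        show ρ a (ρ b u) = u
        rw [show ρ b u = u from hb, show ρ a u = u from ha]
      inv_mem' := by
        intro a ha
        show ρ a⁻¹ u = u
        have h1 : ρ a⁻¹ (ρ a u) = u := by
          show (ρ a⁻¹ * ρ a) u = u
          rw [← map_mul, inv_mul_cancel, map_one]; rfl
        rwa [show ρ a u = u from ha] at h1 }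
  have hmemS : ∀ e : E, e ∈ S ↔ ρ e u = u := fun e => Iff.rfl
  set H : Subgroup (E ⧸ center E) := S.map (QuotientGroup.mk' (center E)) with hH
  have hHt : H ≠ ⊤ := by
    intro hHt
    -- every element of `E` is in `S Z(E)`
    have h1 : ∀ e : E, ∃ s ∈ S, ∃ z ∈ center E, e = s * z := by
      intro e
      have h2 : (QuotientGroup.mk' (center E)) e ∈ H := by rw [hHt]; exact mem_top _
      obtain ⟨s, hs, hse⟩ := h2
      rw [QuotientGroup.mk'_apply, QuotientGroup.mk'_apply, QuotientGroup.eq] at hse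
      exact ⟨s, hs, _, hse, by group⟩
    have hS : S = ⊤ := by
      rw [eq_top_iff, ← hp, commutator_eq_closure, closure_le]
      rintro _ ⟨a, b, rfl⟩
      obtain ⟨s, hs, z, hz, rfl⟩ := h1 a
      obtain ⟨s', hs', z', hz', rfl⟩ := h1 b
      rw [mem_center_iff] at hz hz'
      have h2 : ⁅s * z, s' * z'⁆ = ⁅s, s'⁆ := by
        rw [commutatorElement_def, commutatorElement_def, mul_inv_rev, mul_inv_rev]
        calc s * z * (s' * z') * (z⁻¹ * s⁻¹) * (z'⁻¹ * s'⁻¹) = s * (z * (s' * z')) * (z⁻¹ * s⁻¹) * (z'⁻¹ * s'⁻¹) := by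
              group
          _ = s * (s' * z' * z) * (z⁻¹ * s⁻¹) * (z'⁻¹ * s'⁻¹) := by rw [← hz (s' * z')]
          _ = s * s' * (z' * (s⁻¹ * z'⁻¹)) * s'⁻¹ := by group
          _ = s * s' * (s⁻¹ * z'⁻¹ * z') * s'⁻¹ := by rw [← hz' (s⁻¹ * z'⁻¹)]
          _ = s * s' * s⁻¹ * s'⁻¹ := by group
      rw [h2]
      exact mul_mem (mul_mem (mul_mem hs hs') (inv_mem hs)) (inv_mem hs')
    let W : Submodule (ZMod p) U :=
      { carrier := {w | ∀ e, ρ e w = w}
        add_mem' := fun {a b} ha hb e => by rw [map_add, ha e, hb e]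
        zero_mem' := fun e => map_zero _
        smul_mem' := fun c a ha e => by rw [map_smul, ha e] }
    have hW : W = ⊤ := by
      rcases h.irr W (fun e w hw e' => by rw [hw e, hw e']) with h2 | h2
      · exfalso
        have h3 : u ∈ W := fun e => (hmemS e).1 (by rw [hS]; exact mem_top e)
        rw [h2] at h3
        exact hu ((Submodule.mem_bot _).1 h3)
      · exact h2
    have htriv : ∀ e : E, e = 1 := by
      intro e
      apply Subtype.ext
      apply LinearEquiv.ext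
      intro v
      apply φ.injective
      funext j
      rw [h.eq e v j]
      have h3 : φ v j ∈ W := by rw [hW]; exact Submodule.mem_top
      exact h3 e
    obtain ⟨x, y, hxy⟩ := hna
    apply hxy
    obtain ⟨a, rfl⟩ := QuotientGroup.mk'_surjective _ x
    obtain ⟨b, rfl⟩ := QuotientGroup.mk'_surjective _ y
    rw [htriv a, htriv b]
  refine (hsize H hHt).trans (Nat.pow_le_pow_left ?_ N)
  have h1 : H.index ≤ S.index := by
    rw [hH, Subgroup.index_map, MonoidHom.range_eq_top.2 (QuotientGroup.mk'_surjective _), Subgroup.index_top, mul_one]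
    exact Subgroup.index_antitone le_sup_left
  refine h1.trans ?_
  rw [Subgroup.index]
  refine Nat.card_le_card_of_injective (fun q : E ⧸ S => ρ q.out u) ?_
  intro a b hab
  rw [← QuotientGroup.out_eq' a, ← QuotientGroup.out_eq' b, QuotientGroup.eq, hmemS]
  have h2 : ρ a.out u = ρ b.out u := hab
  rw [map_mul]
  show ρ (a.out)⁻¹ (ρ b.out u) = u
  rw [← h2]
  show (ρ (a.out)⁻¹ * ρ a.out) u = u
  rw [← map_mul, inv_mul_cancel, map_one]; rfl

/-- numbers attached to a component -/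
theorem comp_num [Finite V] {E : Subgroup (V ≃ₗ[ZMod p] V)} {U : Type} [AddCommGroup U]
    [Module (ZMod p) U] {M : ℕ} {ρ : E →* (U ≃ₗ[ZMod p] U)} {φ : V ≃ₗ[ZMod p] (Fin M → U)} (h : HomDec E M ρ φ)
    (hp : commutator E = ⊤) (hna : ∃ x y : E ⧸ center E, x * y ≠ y * x) {N t : ℕ} (hM : 2 ^ (t - 1) ≤ M)
    (hsize : ∀ H : Subgroup (E ⧸ center E), H ≠ ⊤ → Nat.card (MulAut (E ⧸ center E)) ≤ H.index ^ N) :
    (∃ u : ℕ, Nat.card (MulAut (E ⧸ center E)) ≤ u ^ N ∧ u ^ t ≤ Nat.card V) ∧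
      2 ^ (t - 1) ≤ Module.finrank (ZMod p) V := by
  have hM0 : 0 < M := lt_of_lt_of_le (by positivity) hM
  have hfU : Finite U := by
    have hf : Finite (Fin M → U) := Finite.of_equiv V φ.toEquiv
    exact Finite.of_injective (fun u : U => (fun _ => u : Fin M → U)) fun a b hab => congrFun hab ⟨0, hM0⟩
  have hcard : Nat.card U ^ M = Nat.card V := by
    rw [Nat.card_congr φ.toEquiv, Nat.card_pi, Finset.prod_const, Finset.card_univ, Fintype.card_fin]
  have hU0 : 0 < Nat.card U := Nat.card_pos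
  refine ⟨⟨Nat.card U, card_aut_le h hp hna hsize, ?_⟩, ?_⟩
  · rw [← hcard]
    refine Nat.pow_le_pow_right hU0 (le_trans ?_ hM)
    rcases Nat.eq_zero_or_pos t with h0 | h0
    · subst h0; exact Nat.zero_le _
    · obtain ⟨e, rfl⟩ : ∃ e, t = e + 1 := ⟨t - 1, by omega⟩
      exact Nat.lt_two_pow_self
  · refine hM.trans ?_
    have hp1 : 1 < p := (Fact.out : p.Prime).one_lt
    have h1 : Nat.card V = p ^ Module.finrank (ZMod p) V := by
      rw [Module.natCard_eq_pow_finrank (K := ZMod p), Nat.card_zmod]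
    have h2 : p ≤ Nat.card U := by
      obtain ⟨u, hu⟩ := h.nt
      have h3 : Nat.card U = p ^ Module.finrank (ZMod p) U := by
        rw [Module.natCard_eq_pow_finrank (K := ZMod p), Nat.card_zmod]
      have h4 : Module.finrank (ZMod p) U ≠ 0 := by
        intro h0
        rw [h0, pow_zero] at h3
        have h5 := (Nat.card_eq_one_iff_unique.1 h3).1
        exact hu (Subsingleton.elim _ _)
      rw [h3]
      exact Nat.le_self_pow h4 p
    refine (Nat.pow_le_pow_iff_right hp1).1 ?_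
    calc p ^ M ≤ Nat.card U ^ M := Nat.pow_le_pow_left h2 M
      _ = p ^ Module.finrank (ZMod p) V := by rw [hcard, h1]

/-- **D7, from the facts D2, D5, D6.** -/
theorem card_XA_of [Finite V] (X : Subgroup (V ≃ₗ[ZMod p] V)) (hX : PrimLin X)
    (A C R : Subgroup (V ≃ₗ[ZMod p] V)) (t : ℕ) (E : Fin t → Subgroup (V ≃ₗ[ZMod p] V))
    (hS : Str X A C R t E) (n K : ℕ) (hn : 1 ≤ n)
    (hsize : ∀ i, ∀ H : Subgroup (E i ⧸ center (E i)), H ≠ ⊤ →
      Nat.card (MulAut (E i ⧸ center (E i))) ≤ H.index ^ (K * n))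
    (hcyc : IsCyclic A) (hsemi : ∀ a ∈ A, a ≠ 1 → ∀ v : V, a v = v → v = 0)
    (hRA : A.relIndex R ≤ (Module.finrank (ZMod p) V) ^ 2)
    (hdec : ∀ i, ∃ (U : Type) (_ : AddCommGroup U) (_ : Module (ZMod p) U) (M : ℕ)
      (ρ : E i →* (U ≃ₗ[ZMod p] U)) (φ : V ≃ₗ[ZMod p] (Fin M → U)), HomDec (E i) M ρ φ ∧ 2 ^ (t - 1) ≤ M) :
    A.relIndex X ≤ Nat.card V ^ ((27 + K) * n) := by
  classical
  have hfL : Finite (V ≃ₗ[ZMod p] V) := finite_lin
  obtain ⟨v₀, hv₀⟩ := hX.nt
  set q := Nat.card V with hq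
  set D := Module.finrank (ZMod p) V with hD
  have hp1 : 1 < p := (Fact.out : p.Prime).one_lt
  have hqD : q = p ^ D := by
    rw [hq, Module.natCard_eq_pow_finrank (K := ZMod p), Nat.card_zmod]
  have hD1 : 1 ≤ D := by
    by_contra h0
    have h0' : D = 0 := by omega
    rw [h0', pow_zero] at hqD
    have h5 := (Nat.card_eq_one_iff_unique.1 hqD).1
    exact hv₀ (Subsingleton.elim _ _)
  have h2q : 2 ^ D ≤ q := by rw [hqD]; exact Nat.pow_le_pow_left hp1 D
  have hq1 : 1 ≤ q := le_trans Nat.one_le_two_pow h2q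
  have hnum : ∀ i, (∃ u : ℕ, Nat.card (MulAut (E i ⧸ center (E i))) ≤ u ^ (K * n) ∧ u ^ t ≤ q) ∧ 2 ^ (t - 1) ≤ D := by
    intro i
    obtain ⟨U, _, _, M, ρ, φ, h1, h2⟩ := hdec i
    exact comp_num h1 (hS.Eperf i) (hS.Enab i) h2 (hsize i)
  -- the subgroups
  set C₁ : Subgroup (V ≃ₗ[ZMod p] V) := C ⊓ centralizer (R : Set (V ≃ₗ[ZMod p] V)) with hC₁
  set C₂ : Subgroup (V ≃ₗ[ZMod p] V) := C₁ ⊓ ⨅ i, normalizer (E i : Set (V ≃ₗ[ZMod p] V)) with hC₂
  have hAC : ∀ a ∈ A, ∀ x ∈ C, x * a = a * x := fun a ha x hx => ((hS.Ceq x).1 hx).2 a ha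
  have hAC₂ : A ≤ C₂ := by
    intro a ha
    have haC : a ∈ C := hS.RC (hS.AR ha)
    refine mem_inf.2 ⟨mem_inf.2 ⟨haC, ?_⟩, ?_⟩
    · rw [mem_centralizer_iff]
      intro r hr
      exact hAC a ha r (hS.RC hr)
    · rw [mem_iInf]
      intro i
      rw [mem_normalizer_iff]
      intro y
      constructor
      · intro hy
        rw [← hAC a ha y (hS.EC i hy), mul_inv_cancel_right]
        exact hy
      · intro hy
        have h1 := hAC a ha _ (hS.EC i hy)
        have h2 : a * y * a⁻¹ = y := by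
          have h3 : a * y = a * (a * y * a⁻¹) := by rw [← h1]; group
          exact (mul_left_cancel h3).symm
        rwa [h2] at hy
  -- (a)
  have e1 : C.relIndex X ≤ q := by
    refine (relIndex_centA hcyc (fun x hx a ha => hS.Anorm x hx a ha) hS.Ceq).trans ?_
    refine Nat.card_le_card_of_injective (fun a : A => (a : V ≃ₗ[ZMod p] V) v₀) ?_
    intro a b hab
    by_contra hne
    apply hv₀
    refine hsemi ((b : V ≃ₗ[ZMod p] V)⁻¹ * a) (mul_mem (inv_mem b.2) a.2) ?_ v₀ ?_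
    · intro h1
      apply hne
      exact Subtype.ext (inv_mul_eq_one.1 h1).symm
    · have h1 : (a : V ≃ₗ[ZMod p] V) v₀ = (b : V ≃ₗ[ZMod p] V) v₀ := hab
      show (b : V ≃ₗ[ZMod p] V)⁻¹ ((a : V ≃ₗ[ZMod p] V) v₀) = v₀
      rw [h1]
      show ((b : V ≃ₗ[ZMod p] V)⁻¹ * b) v₀ = v₀
      rw [inv_mul_cancel]; rfl
  -- (b)
  have e2 : C₁.relIndex C ≤ q ^ 24 := by
    obtain ⟨k, hk1, hk2⟩ := relIndex_centR (C₁ := C₁) hS.AR hcyc hS.RC (fun x hx a ha => hAC a ha x hx)
      (fun x hx y hy => hS.Rnorm x (hS.CX hx) y hy) (fun x hx h => by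
        refine mem_inf.2 ⟨hx, ?_⟩
        rw [mem_centralizer_iff]
        exact fun r hr => (h r hr).symm)
    exact hk2.trans (num_R hk1 hRA hD1 h2q)
  -- (c)
  have e3 : C₂.relIndex C₁ ≤ q ^ 2 := by
    have hC₁X : ∀ x : C₁, (x : V ≃ₗ[ZMod p] V) ∈ X := fun x => hS.CX (mem_inf.1 x.2).1
    choose σ hσ using fun (x : C₁) (i : Fin t) => hS.Eperm x (hC₁X x) i
    have h1 : C₂.relIndex C₁ ≤ Nat.card (Fin t → Fin t) := by
      refine relIndex_le_card (fun x : C₁ => σ x) ?_
      intro x y hxy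
      refine mem_inf.2 ⟨mul_mem (inv_mem x.2) y.2, ?_⟩
      rw [mem_iInf]
      intro i
      rw [mem_normalizer_iff]
      intro z
      have h2 := hσ y i z
      have h3 := hσ x i ((x : V ≃ₗ[ZMod p] V)⁻¹ * y * z * ((x : V ≃ₗ[ZMod p] V)⁻¹ * y)⁻¹)
      have h4 : (x : V ≃ₗ[ZMod p] V) * ((x : V ≃ₗ[ZMod p] V)⁻¹ * y * z * ((x : V ≃ₗ[ZMod p] V)⁻¹ * y)⁻¹) *
          (x : V ≃ₗ[ZMod p] V)⁻¹ = y * z * (y : V ≃ₗ[ZMod p] V)⁻¹ := by group
      rw [h4, show σ x i = σ y i from congrFun hxy i] at h3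
      exact h2.trans h3.symm
    refine h1.trans ?_
    rw [Nat.card_pi, Finset.prod_const, Finset.card_univ, Fintype.card_fin, Nat.card_eq_fintype_card, Fintype.card_fin]
    exact num_t (fun ht => (hnum ⟨0, ht⟩).2) h2q
  -- (d)
  have e4 : A.relIndex C₂ ≤ q ^ (K * n) := by
    have hN : ∀ (x : C₂) (i : Fin t), (x : V ≃ₗ[ZMod p] V) ∈ normalizer (E i : Set (V ≃ₗ[ZMod p] V)) :=
      fun x i => (mem_iInf.1 (mem_inf.1 x.2).2) i
    have h1 : A.relIndex C₂ ≤ Nat.card (∀ i, MulAut (E i ⧸ center (E i))) := by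
      have hauto : ∀ (x : C₂) (i : Fin t), ∃ α : MulAut (E i ⧸ center (E i)), ∀ e : E i,
          ∃ e' : E i, (e' : V ≃ₗ[ZMod p] V) = x * e * (x : V ≃ₗ[ZMod p] V)⁻¹ ∧
            α (e : E i ⧸ center (E i)) = (e' : E i ⧸ center (E i)) := by
        intro x i
        let β : MulAut (E i) := Subgroup.normalizerMonoidHom (E i) ⟨x, hN x i⟩
        refine ⟨QuotientGroup.congr (center (E i)) (center (E i)) β ?_, fun e => ⟨β e, rfl, rfl⟩⟩
        exact Subgroup.characteristic_iff_map_eq.1 inferInstance β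
      choose α hα using hauto
      refine relIndex_le_card (fun x : C₂ => fun i => α x i) ?_
      intro x y hxy
      have hz : (x : V ≃ₗ[ZMod p] V)⁻¹ * y ∈ C₂ := mul_mem (inv_mem x.2) y.2
      refine hS.cent _ (mem_inf.1 (mem_inf.1 hz).1).1 ?_ ?_
      · intro r hr
        have := (mem_inf.1 (mem_inf.1 hz).1).2
        rw [mem_centralizer_iff] at this
        exact (this r hr).symm
      · intro i e he
        -- conjugation by `z` is trivial modulo the centre
        let β : MulAut (E i) := Subgroup.normalizerMonoidHom (E i) ⟨(x : V ≃ₗ[ZMod p] V)⁻¹ * y,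
          (mem_iInf.1 (mem_inf.1 hz).2) i⟩
        have hβ : ∀ e : E i, ((β e : E i) : V ≃ₗ[ZMod p] V) =
            (x : V ≃ₗ[ZMod p] V)⁻¹ * y * e * ((x : V ≃ₗ[ZMod p] V)⁻¹ * y)⁻¹ := fun e => rfl
        have h2 : ∀ e : E i, e⁻¹ * β e ∈ center (E i) := by
          intro e
          rw [← QuotientGroup.eq]
          apply (α x i).injective
          obtain ⟨e₁, he₁, he₁'⟩ := hα x i e
          obtain ⟨e₂, he₂, he₂'⟩ := hα x i (β e)
          obtain ⟨e₃, he₃, he₃'⟩ := hα y i e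
          have h3 : e₂ = e₃ := by
            apply Subtype.ext
            rw [he₂, he₃, hβ]
            group
          have h4 : α x i (e : E i ⧸ center (E i)) = α y i (e : E i ⧸ center (E i)) := by
            rw [show α x i = α y i from congrFun hxy i]
          rw [h4, he₃', he₂', h3]
        have h5 := eq_of_perfect_center (hS.Eperf i) β h2 ⟨e, he⟩
        have h6 := congrArg Subtype.val h5
        rw [hβ] at h6
        change (x : V ≃ₗ[ZMod p] V)⁻¹ * y * e * ((x : V ≃ₗ[ZMod p] V)⁻¹ * y)⁻¹ = e at h6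
        rw [mul_inv_eq_iff_eq_mul] at h6
        exact h6
    refine h1.trans ?_
    rw [Nat.card_pi]
    choose u hu1 hu2 using fun i => (hnum i).1
    calc ∏ i, Nat.card (MulAut (E i ⧸ center (E i))) ≤ ∏ i, u i ^ (K * n) := Finset.prod_le_prod' fun i _ => hu1 i
      _ = (∏ i, u i) ^ (K * n) := Finset.prod_pow _ _ _
      _ ≤ q ^ (K * n) := by
          refine Nat.pow_le_pow_left ?_ _
          rcases Nat.eq_zero_or_pos t with h0 | h0
          · subst h0
            simpa using hq1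
          · refine (Nat.pow_le_pow_iff_left h0.ne').1 ?_
            rw [← Finset.prod_pow]
            calc ∏ i, u i ^ t ≤ ∏ _i : Fin t, q := Finset.prod_le_prod' fun i _ => hu2 i
              _ = q ^ t := by rw [Finset.prod_const, Finset.card_univ, Fintype.card_fin]
  -- the product
  have f1 := Subgroup.relIndex_mul_relIndex A C₂ C₁ hAC₂ inf_le_left
  have f2 := Subgroup.relIndex_mul_relIndex A C₁ C (hAC₂.trans inf_le_left) inf_le_left
  have f3 := Subgroup.relIndex_mul_relIndex A C X ((hAC₂.trans inf_le_left).trans inf_le_left) hS.CX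
  rw [← f3, ← f2, ← f1]
  calc A.relIndex C₂ * C₂.relIndex C₁ * C₁.relIndex C * C.relIndex X ≤ q ^ (K * n) * q ^ 2 * q ^ 24 * q :=
        Nat.mul_le_mul (Nat.mul_le_mul (Nat.mul_le_mul e4 e3) e2) e1
    _ = q ^ (K * n + 27) := by ring
    _ ≤ q ^ ((27 + K) * n) := by
        refine Nat.pow_le_pow_right hq1 ?_
        nlinarith

end Lin

end Cfsg.Agent.H951.B57
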