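import Mathlib
import Cfsg.Agent.H951.B57.CardXA
import Cfsg.Agent.H315.B57.Abelian
import Cfsg.Agent.H39.B57.RA

/-!
# S5717, D7: `card_XA` from D2 (helper315), D6 (helper39) and the statement D5 (`comp_dec`)
-/

set_option autoImplicit false

open Subgroup

namespace Cfsg.Agent.H951.B57

open Cfsg.Agent.H830.B57

/-- the statement of D5 -/
def CompDec : Prop :=
  ∀ (p : ℕ) [Fact p.Prime] (V : Type) [AddCommGroup V] [Module (ZMod p) V] [Finite V]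
    (X : Subgroup (V ≃ₗ[ZMod p] V)), PrimLin X →
    ∀ (A C R : Subgroup (V ≃ₗ[ZMod p] V)) (t : ℕ) (E : Fin t → Subgroup (V ≃ₗ[ZMod p] V)), Str X A C R t E →
    ∀ i : Fin t, ∃ (U : Type) (_ : AddCommGroup U) (_ : Module (ZMod p) U) (M : ℕ)
      (ρ : E i →* (U ≃ₗ[ZMod p] U)) (φ : V ≃ₗ[ZMod p] (Fin M → U)), HomDec (E i) M ρ φ ∧
      2 ^ (t - 1) ≤ M

/-- **D7** from D5 -/
theorem card_XA_of_compDec (hD5 : CompDec) (K : ℕ) : ∃ K' : ℕ, ∀ (p : ℕ) [Fact p.Prime] (V : Type) [AddCommGroup V]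
    [Module (ZMod p) V] [Finite V] (X : Subgroup (V ≃ₗ[ZMod p] V)) (_ : PrimLin X)
    (A C R : Subgroup (V ≃ₗ[ZMod p] V)) (t : ℕ) (E : Fin t → Subgroup (V ≃ₗ[ZMod p] V))
    (_ : Str X A C R t E) (n : ℕ) (_ : 1 ≤ n)
    (_ : ∀ i, ∀ H : Subgroup (E i ⧸ center (E i)), H ≠ ⊤ →
      Nat.card (MulAut (E i ⧸ center (E i))) ≤ H.index ^ (K * n)),
    A.relIndex X ≤ Nat.card V ^ (K' * n) := by
  refine ⟨27 + K, ?_⟩
  intro p _ V _ _ _ X hX A C R t E hS n hn hsize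
  have hD2 := H315.B57.abelian_normal X hX A (hS.AR.trans (hS.RC.trans hS.CX)) hS.Anorm hS.Acomm
  refine card_XA_of X hX A C R t E hS n K hn hsize hD2.1 hD2.2.1 ?_ (fun i => hD5 p V X hX A C R t E hS i)
  exact H39.B57.card_RA_of (fun X hX A hAX hA hab => H315.B57.abelian_normal X hX A hAX hA hab) X hX A C R t E hS

end Cfsg.Agent.H951.B57
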